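import Groth.Agent.LocSymLib.Places
import Groth.Agent.FFLib.Degree
import Groth.Agent.FFLib.LSpace
import Groth.Agent.FFLib.Plucker
import Groth.Agent.FFLib.Rational
import Groth.Prelude.Def_W4bk6serrecg25LocSym
import Mathlib.AlgebraicGeometry.AlgClosed.Basic

/-! Rational points of a smooth proper curve over an algebraically closed field as places of the
function field; orders, values, congruences and weak approximation. -/

noncomputable section

set_option linter.style.haveILetI false
set_option linter.unusedSectionVars false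

universe u

open CategoryTheory AlgebraicGeometry FunFld WithZero

namespace Groth.Agent.LocSymLib

variable {k : Type u} [Field k] [IsAlgClosed k] {X : Scheme.{u}} [IsIntegral X]
  (c : X ⟶ Spec (CommRingCat.of k)) [IsProper c] [Smooth c]

/-- The `k`-algebra structure of the function field by constants. -/
@[reducible] def cAlg : Algebra k X.functionField := (LocSym.constFun c).toAlgebra

theorem exists_place_equiv (hdim : topologicalKrullDim X = 1) :
    letI := cAlg c
    IsFunctionField k X.functionField ∧
    ∃ e : LocSym.Pt c ≃ FunFld.Place k X.functionField,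
      ∀ (x : LocSym.Pt c) (g : X.functionField), x.ord g = (e x).ord g := by
  letI : X.Over (Spec (CommRingCat.of k)) := ⟨c⟩
  haveI : IsProper (X ↘ Spec (CommRingCat.of k)) := ‹IsProper c›
  haveI : Smooth (X ↘ Spec (CommRingCat.of k)) := ‹Smooth c›
  letI := cAlg c
  refine ⟨Places.isFunctionField k X hdim,
    ((pointEquivClosedPoint c).trans (Equiv.subtypeEquivRight fun z =>
      (mem_closedPoints_iff (x := z)))).trans (Places.pl k X hdim), fun x g => ?_⟩
  have hz : IsClosed ({x.pt} : Set X) := (pointEquivClosedPoint c x).2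
  haveI := Places.isDVR k X hdim hz
  have h : IsNoetherianRing (X.presheaf.stalk x.pt) ∧ Ring.KrullDimLE 1 (X.presheaf.stalk x.pt) ∧
      Nontrivial (X.presheaf.stalk x.pt) ∧ IsFractionRing (X.presheaf.stalk x.pt) X.functionField :=
    ⟨inferInstance, inferInstance, inferInstance, inferInstance⟩
  unfold LocSym.Pt.ord
  rw [CycAlg.ordFrac, dif_pos h]
  show _ = -WithZero.log ((IsDiscreteValuationRing.maximalIdeal (X.presheaf.stalk x.pt)).valuation
    X.functionField g)
  rw [Ring.ordFrac_eq_valuation_inv]
  generalize (IsDiscreteValuationRing.maximalIdeal (X.presheaf.stalk x.pt)).valuation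
    X.functionField g = t
  induction t using WithZero.recZeroCoe with
  | zero => simp
  | coe z => rfl

variable (hdim : topologicalKrullDim X = 1)

/-- Rational points as places. -/
def pe : letI := cAlg c; LocSym.Pt c ≃ FunFld.Place k X.functionField :=
  (exists_place_equiv c hdim).2.choose

include hdim in
theorem isFF : letI := cAlg c; IsFunctionField k X.functionField :=
  (exists_place_equiv c hdim).1

/-- The normalised valuation at a rational point. -/
def vl (x : LocSym.Pt c) : Valuation X.functionField (WithZero (Multiplicative ℤ)) :=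
  letI := cAlg c; (pe c hdim x).1

theorem ord_eq (x : LocSym.Pt c) (g : X.functionField) : x.ord g = -log (vl c hdim x g) :=
  (exists_place_equiv c hdim).2.choose_spec x g

include hdim in
theorem ord_zero (x : LocSym.Pt c) : x.ord (0 : X.functionField) = 0 := by
  rw [ord_eq c hdim, map_zero, log_zero, neg_zero]

theorem vl_const_le (x : LocSym.Pt c) (a : k) : vl c hdim x (LocSym.constFun c a) ≤ 1 :=
  letI := cAlg c; (pe c hdim x).2.1 a

theorem vl_const (x : LocSym.Pt c) {a : k} (ha : a ≠ 0) : vl c hdim x (LocSym.constFun c a) = 1 :=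
  letI := cAlg c; FFLib.val_algebraMap (pe c hdim x) ha

theorem vl_le_exp_iff (x : LocSym.Pt c) {g : X.functionField} (hg : g ≠ 0) (n : ℤ) :
    vl c hdim x g ≤ exp n ↔ -n ≤ x.ord g := by
  letI := cAlg c
  rw [ord_eq c hdim]; exact FFLib.val_le_exp_iff (pe c hdim x) hg n

theorem vl_lt_one_iff (x : LocSym.Pt c) {g : X.functionField} (hg : g ≠ 0) :
    vl c hdim x g < 1 ↔ 0 < x.ord g := by
  letI := cAlg c
  rw [ord_eq c hdim]; exact FFLib.val_lt_one_iff (pe c hdim x) hg

theorem hasValueAt_iff (x : LocSym.Pt c) (g : X.functionField) (a : k) :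
    LocSym.HasValueAt x g a ↔ vl c hdim x (g - LocSym.constFun c a) < 1 := by
  rw [LocSym.HasValueAt]
  rcases eq_or_ne (g - LocSym.constFun c a) 0 with h | h
  · rw [h, map_zero]
    exact iff_of_true (Or.inl (sub_eq_zero.1 h)) zero_lt_one
  · rw [vl_lt_one_iff c hdim x h]
    exact or_iff_right (fun e => h (sub_eq_zero.2 e))

theorem cong1At_iff (m : LocSym.Pt c →₀ ℕ) (x : LocSym.Pt c) (g : X.functionField) :
    LocSym.Cong1At m x g ↔ vl c hdim x (1 - g) ≤ exp (-(m x : ℤ)) := by
  rw [LocSym.Cong1At]
  rcases eq_or_ne (1 - g) 0 with h | h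
  · rw [h, map_zero]
    exact iff_of_true (Or.inl (sub_eq_zero.1 h).symm) zero_le
  · rw [vl_le_exp_iff c hdim x h, neg_neg]
    exact or_iff_right (fun e => h (sub_eq_zero.2 e.symm))

include hdim in
theorem ord_mul (x : LocSym.Pt c) {g h : X.functionField} (hg : g ≠ 0) (hh : h ≠ 0) :
    x.ord (g * h) = x.ord g + x.ord h := by
  letI := cAlg c
  simp only [ord_eq c hdim]; exact FFLib.ord_mul (pe c hdim x) hg hh

include hdim in
theorem ord_inv (x : LocSym.Pt c) (g : X.functionField) : x.ord g⁻¹ = -x.ord g := by
  simp [ord_eq c hdim, map_inv₀, log_inv]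

include hdim in
theorem ord_div (x : LocSym.Pt c) {g h : X.functionField} (hg : g ≠ 0) (hh : h ≠ 0) :
    x.ord (g / h) = x.ord g - x.ord h := by
  rw [div_eq_mul_inv, ord_mul c hdim x hg (inv_ne_zero hh), ord_inv c hdim, sub_eq_add_neg]

include hdim in
theorem ord_pow (x : LocSym.Pt c) (g : X.functionField) (n : ℕ) : x.ord (g ^ n) = n * x.ord g := by
  simp [ord_eq c hdim, map_pow, log_pow]

include hdim in
theorem ord_zpow (x : LocSym.Pt c) (g : X.functionField) (n : ℤ) : x.ord (g ^ n) = n * x.ord g := by
  simp [ord_eq c hdim, map_zpow₀, log_zpow]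

include hdim in
theorem ord_const (x : LocSym.Pt c) (a : k) : x.ord (LocSym.constFun c a) = 0 := by
  rcases eq_or_ne a 0 with rfl | ha
  · rw [map_zero, ord_zero c hdim]
  · rw [ord_eq c hdim, vl_const c hdim x ha, log_one, neg_zero]

include hdim in
theorem ord_one (x : LocSym.Pt c) : x.ord (1 : X.functionField) = 0 := by
  rw [ord_eq c hdim, map_one, log_one, neg_zero]

include hdim in
theorem finite_support (g : X.functionField) :
    (Function.support fun x : LocSym.Pt c => x.ord g).Finite := by
  letI := cAlg c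
  refine ((FFLib.finite_support_ord (isFF c hdim).1 g).preimage
    (pe c hdim).injective.injOn).subset fun x hx => ?_
  simp only [Function.mem_support, Set.mem_preimage, ord_eq c hdim] at hx ⊢
  exact hx

include hdim in
/-- A rational function without zeros and poles is constant. -/
theorem eq_const_of_ord_eq_zero {g : X.functionField} (h : ∀ x : LocSym.Pt c, x.ord g = 0) :
    ∃ a : k, g = LocSym.constFun c a := by
  letI := cAlg c
  have hg : g ∈ L (0 : Divisor k X.functionField) := fun P => by
    rcases eq_or_ne g 0 with rfl | h0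
    · simp
    · obtain ⟨x, rfl⟩ := (pe c hdim).surjective P
      exact (vl_le_exp_iff c hdim x h0 0).2 (by simp [h x])
  rw [FFLib.L_zero_eq (isFF c hdim)] at hg
  obtain ⟨a, ha⟩ := hg
  exact ⟨a, ha.symm⟩

include hdim in
theorem exists_value (x : LocSym.Pt c) {g : X.functionField} (h : 0 ≤ x.ord g) :
    ∃ a : k, LocSym.HasValueAt x g a := by
  letI := cAlg c
  rcases eq_or_ne g 0 with rfl | h0
  · exact ⟨0, Or.inl (map_zero _).symm⟩
  obtain ⟨a, ha⟩ := FFLib.exists_value (isFF c hdim).1
    (FFLib.deg_eq_one (isFF c hdim).1 (pe c hdim x))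
    ((FFLib.val_le_one_iff _ h0).2 (by rwa [ord_eq c hdim] at h))
  exact ⟨a, (hasValueAt_iff c hdim x g a).2 ha⟩

include hdim in
theorem exists_unit_value (x : LocSym.Pt c) {g : X.functionField} (hg : g ≠ 0) (h : x.ord g = 0) :
    ∃ a : kˣ, LocSym.HasValueAt x g (a : k) := by
  obtain ⟨a, ha⟩ := exists_value c hdim x h.ge
  refine ⟨Units.mk0 a fun e => ?_, ha⟩
  subst e
  rw [hasValueAt_iff c hdim, map_zero, sub_zero, vl_lt_one_iff c hdim x hg] at ha
  omega

include hdim in
theorem value_unique (x : LocSym.Pt c) {g : X.functionField} {a b : k}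
    (ha : LocSym.HasValueAt x g a) (hb : LocSym.HasValueAt x g b) : a = b := by
  rw [hasValueAt_iff c hdim] at ha hb
  by_contra hne
  have h := Valuation.map_sub_lt (vl c hdim x) ha hb
  rw [sub_sub_sub_cancel_left, ← map_sub, vl_const c hdim x (sub_ne_zero.2 (Ne.symm hne))] at h
  exact lt_irrefl _ h

include hdim in
theorem value_mul (x : LocSym.Pt c) {g h : X.functionField} {a b : k}
    (ha : LocSym.HasValueAt x g a) (hb : LocSym.HasValueAt x h b) :
    LocSym.HasValueAt x (g * h) (a * b) := by
  rw [hasValueAt_iff c hdim] at ha hb ⊢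
  have e : g * h - LocSym.constFun c (a * b) =
      (g - LocSym.constFun c a) * (h - LocSym.constFun c b)
        + (g - LocSym.constFun c a) * LocSym.constFun c b
        + LocSym.constFun c a * (h - LocSym.constFun c b) := by
    rw [map_mul]; ring
  rw [e]
  refine Valuation.map_add_lt _ (Valuation.map_add_lt _ ?_ ?_) ?_ <;> rw [map_mul]
  · exact (mul_le_of_le_one_right' hb.le).trans_lt ha
  · exact (mul_le_of_le_one_right' (vl_const_le c hdim x b)).trans_lt ha
  · exact (mul_le_of_le_one_left' (vl_const_le c hdim x a)).trans_lt hb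

theorem value_one (x : LocSym.Pt c) : LocSym.HasValueAt x (1 : X.functionField) (1 : k) :=
  Or.inl (map_one _).symm

theorem value_const (x : LocSym.Pt c) (a : k) : LocSym.HasValueAt x (LocSym.constFun c a) a :=
  Or.inl rfl

include hdim in
theorem ord_eq_zero_of_value (x : LocSym.Pt c) {g : X.functionField} {a : k} (ha0 : a ≠ 0)
    (ha : LocSym.HasValueAt x g a) : g ≠ 0 ∧ x.ord g = 0 := by
  rw [hasValueAt_iff c hdim] at ha
  have hg : vl c hdim x g = 1 := by
    have e : g = (g - LocSym.constFun c a) + LocSym.constFun c a := by ring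
    rw [e, Valuation.map_add_eq_of_lt_right, vl_const c hdim x ha0]
    rwa [vl_const c hdim x ha0]
  refine ⟨fun e => by simp [e] at hg, ?_⟩
  rw [ord_eq c hdim, hg, log_one, neg_zero]

include hdim in
theorem value_inv (x : LocSym.Pt c) {g : X.functionField} {a : k} (ha0 : a ≠ 0)
    (ha : LocSym.HasValueAt x g a) : LocSym.HasValueAt x g⁻¹ a⁻¹ := by
  obtain ⟨hg, ho⟩ := ord_eq_zero_of_value c hdim x ha0 ha
  obtain ⟨b, hb⟩ := exists_value c hdim x (g := g⁻¹) (by rw [ord_inv c hdim, ho, neg_zero])
  have h := value_mul c hdim x ha hb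
  rw [mul_inv_cancel₀ hg] at h
  rwa [inv_eq_of_mul_eq_one_right (value_unique c hdim x (value_one c x) h).symm]

include hdim in
theorem value_div (x : LocSym.Pt c) {g h : X.functionField} {a b : k} (hb0 : b ≠ 0)
    (ha : LocSym.HasValueAt x g a) (hb : LocSym.HasValueAt x h b) :
    LocSym.HasValueAt x (g / h) (a / b) := by
  rw [div_eq_mul_inv, div_eq_mul_inv]
  exact value_mul c hdim x ha (value_inv c hdim x hb0 hb)

include hdim in
theorem value_pow (x : LocSym.Pt c) {g : X.functionField} {a : k}
    (ha : LocSym.HasValueAt x g a) (n : ℕ) : LocSym.HasValueAt x (g ^ n) (a ^ n) := by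
  induction n with
  | zero => simpa using value_one c x
  | succ n ih => rw [pow_succ, pow_succ]; exact value_mul c hdim x ih ha

include hdim in
/-- Weak approximation: prescribed values at finitely many points, nonzero. -/
theorem exists_prescribed_values (S : Finset (LocSym.Pt c)) (v : LocSym.Pt c → kˣ) :
    ∃ g : X.functionField, g ≠ 0 ∧ ∀ x ∈ S, LocSym.HasValueAt x g (v x : k) := by
  classical
  letI := cAlg c
  rcases S.eq_empty_or_nonempty with rfl | ⟨x₀, hx₀⟩
  · exact ⟨1, one_ne_zero, by simp⟩
  obtain ⟨g, hg⟩ := FFLib.exists_approx (S.image (pe c hdim))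
    (fun P => LocSym.constFun c (v ((pe c hdim).symm P) : k)) (fun _ => 1)
  have h : ∀ x ∈ S, LocSym.HasValueAt x g (v x : k) := fun x hx => by
    rw [hasValueAt_iff c hdim]
    have := hg _ (Finset.mem_image_of_mem _ hx)
    rw [Equiv.symm_apply_apply] at this
    refine this.trans_lt ?_
    rw [← exp_zero, exp_lt_exp]
    omega
  exact ⟨g, (ord_eq_zero_of_value c hdim x₀ (v x₀).ne_zero (h x₀ hx₀)).1, h⟩

include hdim in
/-- Weak approximation: prescribed orders at finitely many points. -/
theorem exists_prescribed_ord (S : Finset (LocSym.Pt c)) (n : LocSym.Pt c → ℤ) :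
    ∃ g : X.functionField, g ≠ 0 ∧ ∀ x ∈ S, x.ord g = n x := by
  classical
  letI := cAlg c
  rcases S.eq_empty_or_nonempty with rfl | ⟨x₀, hx₀⟩
  · exact ⟨1, one_ne_zero, by simp⟩
  obtain ⟨g, hg⟩ := FFLib.exists_approx_eq (S.image (pe c hdim)) (fun _ => 0)
    (fun P => n ((pe c hdim).symm P))
  have h : ∀ x ∈ S, vl c hdim x g = exp (-(n x)) := fun x hx => by
    have := hg _ (Finset.mem_image_of_mem _ hx)
    rwa [sub_zero, Equiv.symm_apply_apply] at this
  refine ⟨g, fun e => ?_, fun x hx => ?_⟩
  · have := h x₀ hx₀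
    rw [e, map_zero] at this
    exact exp_ne_zero this.symm
  · rw [ord_eq c hdim, h x hx, log_exp, neg_neg]

include hdim in
/-- Weak approximation with congruences: a nonzero function congruent to prescribed functions. -/
theorem exists_approx (S : Finset (LocSym.Pt c)) (f : LocSym.Pt c → X.functionField)
    (m : LocSym.Pt c → ℤ) :
    ∃ g : X.functionField, ∀ x ∈ S, vl c hdim x (g - f x) ≤ exp (-(m x)) := by
  classical
  letI := cAlg c
  obtain ⟨g, hg⟩ := FFLib.exists_approx (S.image (pe c hdim)) (fun P => f ((pe c hdim).symm P))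
    (fun P => m ((pe c hdim).symm P))
  refine ⟨g, fun x hx => ?_⟩
  have := hg _ (Finset.mem_image_of_mem _ hx)
  rwa [Equiv.symm_apply_apply] at this

end Groth.Agent.LocSymLib
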