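import Groth.Agent.LocSymLib.Bridge
import Groth.Prelude.Def_W4c1etcurveeff2PicMod

/-! The exact sequence of the generalised Picard group with a reduced modulus. -/

noncomputable section

set_option linter.unusedSectionVars false

universe u

open CategoryTheory AlgebraicGeometry W4c1etcurveeff2 WithZero

namespace Groth.Agent.LocSymLib

variable {k : Type u} [Field k] [IsAlgClosed k] {X : Scheme.{u}} [IsIntegral X]
  {c : X ⟶ Spec (CommRingCat.of k)} [IsProper c] [Smooth c]
  (hdim : topologicalKrullDim X = 1)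

include hdim

theorem exists_isDivOf {g : X.functionField} (hg : g ≠ 0) :
    ∃ D : LocSym.Pt c →₀ ℤ, IsDivOf c D g :=
  ⟨Finsupp.ofSupportFinite _ (finite_support c hdim g), hg, fun _ => rfl⟩

theorem isDivOf_one : IsDivOf c (0 : LocSym.Pt c →₀ ℤ) (1 : X.functionField) :=
  ⟨one_ne_zero, fun x => by rw [ord_one c hdim]; rfl⟩

theorem isDivOf_mul {D E : LocSym.Pt c →₀ ℤ} {g h : X.functionField} (hD : IsDivOf c D g)
    (hE : IsDivOf c E h) : IsDivOf c (D + E) (g * h) :=
  ⟨mul_ne_zero hD.1 hE.1, fun x => by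
    rw [ord_mul c hdim x hD.1 hE.1, Finsupp.add_apply, hD.2, hE.2]⟩

theorem isDivOf_inv {D : LocSym.Pt c →₀ ℤ} {g : X.functionField} (hD : IsDivOf c D g) :
    IsDivOf c (-D) g⁻¹ :=
  ⟨inv_ne_zero hD.1, fun x => by rw [ord_inv c hdim, Finsupp.neg_apply, hD.2]⟩

theorem isDivOf_div {D E : LocSym.Pt c →₀ ℤ} {g h : X.functionField} (hD : IsDivOf c D g)
    (hE : IsDivOf c E h) : IsDivOf c (D - E) (g / h) := by
  rw [sub_eq_add_neg, div_eq_mul_inv]
  exact isDivOf_mul hdim hD (isDivOf_inv hdim hE)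

theorem isDivOf_pow {D : LocSym.Pt c →₀ ℤ} {g : X.functionField} (hD : IsDivOf c D g) (n : ℕ) :
    IsDivOf c (n • D) (g ^ n) :=
  ⟨pow_ne_zero _ hD.1, fun x => by rw [ord_pow c hdim, Finsupp.smul_apply, hD.2, nsmul_eq_mul]⟩

theorem mem_principal_iff (D : LocSym.Pt c →₀ ℤ) :
    D ∈ principal c ↔ ∃ g : X.functionField, IsDivOf c D g := by
  refine ⟨fun h => ?_, fun h => AddSubgroup.subset_closure h⟩
  refine AddSubgroup.closure_induction (fun _ hx => hx) ⟨1, isDivOf_one hdim⟩ ?_ ?_ h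
  · rintro D E - - ⟨g, hg⟩ ⟨h, hh⟩
    exact ⟨g * h, isDivOf_mul hdim hg hh⟩
  · rintro D - ⟨g, hg⟩
    exact ⟨g⁻¹, isDivOf_inv hdim hg⟩

variable {m : LocSym.Pt c →₀ ℕ} (hm : ∀ x : LocSym.Pt c, m x ≤ 1)

include hm

theorem cong1_iff (g : X.functionField) :
    LocSym.Cong1 m g ↔ ∀ x ∈ m.support, LocSym.HasValueAt x g (1 : k) := by
  refine forall₂_congr fun x hx => ?_
  have h1 : m x = 1 := le_antisymm (hm x) (Nat.one_le_iff_ne_zero.2 (Finsupp.mem_support_iff.1 hx))
  rw [cong1At_iff c hdim, hasValueAt_iff c hdim, map_one, h1, Valuation.map_sub_swap]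
  refine ⟨fun h => h.trans_lt (by rw [← exp_zero, exp_lt_exp]; omega), fun h => ?_⟩
  generalize vl c hdim x (g - 1) = t at h
  rcases eq_or_ne t 0 with rfl | ht
  · exact zero_le
  · rw [← exp_log ht, ← exp_zero, exp_lt_exp] at h
    rw [← exp_log ht, exp_le_exp]
    omega

theorem mem_principalMod_iff (D : divAway c m) :
    D ∈ principalMod c m ↔ ∃ g : X.functionField, IsDivOf c (D : LocSym.Pt c →₀ ℤ) g ∧
      ∀ x ∈ m.support, LocSym.HasValueAt x g (1 : k) := by
  constructor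
  · intro h
    refine AddSubgroup.closure_induction ?_ ?_ ?_ ?_ h
    · rintro D ⟨g, hg, hc⟩
      exact ⟨g, hg, (cong1_iff hdim hm g).1 hc⟩
    · exact ⟨1, isDivOf_one hdim, fun x _ => value_one c x⟩
    · rintro D E - - ⟨g, hg, hgv⟩ ⟨h, hh, hhv⟩
      exact ⟨g * h, isDivOf_mul hdim hg hh, fun x hx => by
        simpa using value_mul c hdim x (hgv x hx) (hhv x hx)⟩
    · rintro D - ⟨g, hg, hgv⟩
      exact ⟨g⁻¹, isDivOf_inv hdim hg, fun x hx => by
        simpa using value_inv c hdim x one_ne_zero (hgv x hx)⟩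
  · rintro ⟨g, hg, hgv⟩
    exact AddSubgroup.subset_closure ⟨g, hg, (cong1_iff hdim hm g).2 hgv⟩

/-- Two functions with the same values on the modulus give the same class. -/
theorem mk_eq_of_values {D E : divAway c m} {g h : X.functionField}
    (hg : IsDivOf c (D : LocSym.Pt c →₀ ℤ) g) (hh : IsDivOf c (E : LocSym.Pt c →₀ ℤ) h)
    {v : LocSym.Pt c → kˣ} (hgv : ∀ x ∈ m.support, LocSym.HasValueAt x g (v x : k))
    (hhv : ∀ x ∈ m.support, LocSym.HasValueAt x h (v x : k)) :
    (QuotientAddGroup.mk D : PicMod c m) = QuotientAddGroup.mk E := by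
  rw [QuotientAddGroup.eq_iff_sub_mem, mem_principalMod_iff hdim hm]
  refine ⟨g / h, isDivOf_div hdim hg hh, fun x hx => ?_⟩
  have := value_div c hdim x (v x).ne_zero (hgv x hx) (hhv x hx)
  rwa [div_self (v x).ne_zero] at this

omit hm in
theorem exists_fun_values (v : LocSym.Pt c → kˣ) :
    ∃ (g : X.functionField) (D : divAway c m), IsDivOf c (D : LocSym.Pt c →₀ ℤ) g ∧
      ∀ x ∈ m.support, LocSym.HasValueAt x g (v x : k) := by
  obtain ⟨g, hg0, hg⟩ := exists_prescribed_values c hdim m.support v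
  obtain ⟨D, hD⟩ := exists_isDivOf hdim (c := c) hg0
  refine ⟨g, ⟨D, fun x hx => ?_⟩, hD, hg⟩
  rw [hD.2, (ord_eq_zero_of_value c hdim x (v x).ne_zero (hg x hx)).2]

theorem mk_eq_zero_iff {D : divAway c m} {g : X.functionField}
    (hg : IsDivOf c (D : LocSym.Pt c →₀ ℤ) g) {v : LocSym.Pt c → kˣ}
    (hgv : ∀ x ∈ m.support, LocSym.HasValueAt x g (v x : k)) :
    (QuotientAddGroup.mk D : PicMod c m) = 0 ↔ ∃ a : kˣ, ∀ x ∈ m.support, v x = a := by
  rw [QuotientAddGroup.eq_zero_iff, mem_principalMod_iff hdim hm]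
  constructor
  · rintro ⟨h, hh, hhv⟩
    have hq := isDivOf_div hdim hg hh
    rw [sub_self] at hq
    obtain ⟨a, ha⟩ := eq_const_of_ord_eq_zero c hdim (g := g / h) fun x => (hq.2 x).symm
    have ha0 : a ≠ 0 := fun e => hq.1 (by rw [ha, e, map_zero])
    refine ⟨Units.mk0 a ha0, fun x hx => Units.ext ?_⟩
    have h1 := value_div c hdim x one_ne_zero (hgv x hx) (hhv x hx)
    rw [div_one, ha] at h1
    exact value_unique c hdim x h1 (value_const c x a)
  · rintro ⟨a, ha⟩
    refine ⟨g / LocSym.constFun c (a : k), ⟨div_ne_zero hg.1 (map_ne_zero_iff _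
      (LocSym.constFun c).injective |>.2 a.ne_zero), fun x => ?_⟩, fun x hx => ?_⟩
    · rw [ord_div c hdim x hg.1 (map_ne_zero_iff _ (LocSym.constFun c).injective |>.2 a.ne_zero),
        ord_const c hdim, sub_zero, hg.2]
    · have := value_div c hdim x a.ne_zero (hgv x hx) (value_const c x (a : k))
      rwa [ha x hx, div_self a.ne_zero] at this

omit hm in
theorem picModToPic_surjective : Function.Surjective (picModToPic c m) := by
  intro y
  obtain ⟨D, rfl⟩ := QuotientAddGroup.mk_surjective y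
  obtain ⟨g, hg0, hg⟩ := exists_prescribed_ord c hdim m.support (fun x => -D x)
  obtain ⟨F, hF⟩ := exists_isDivOf hdim (c := c) hg0
  refine ⟨QuotientAddGroup.mk ⟨D + F, fun x hx => by
    rw [Finsupp.add_apply, hF.2, hg x hx, add_neg_cancel]⟩, ?_⟩
  rw [picModToPic, QuotientAddGroup.map_mk, QuotientAddGroup.eq_iff_sub_mem]
  exact AddSubgroup.subset_closure ⟨g, by simpa using hF⟩

omit hm in
theorem picModToPic_eq_zero_iff (y : PicMod c m) :
    picModToPic c m y = 0 ↔
      ∃ (g : X.functionField) (D : divAway c m) (v : LocSym.Pt c → kˣ),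
        IsDivOf c (D : LocSym.Pt c →₀ ℤ) g ∧ (∀ x ∈ m.support, LocSym.HasValueAt x g (v x : k)) ∧
        y = (QuotientAddGroup.mk D : PicMod c m) := by
  classical
  obtain ⟨D, rfl⟩ := QuotientAddGroup.mk_surjective y
  rw [picModToPic, QuotientAddGroup.map_mk, QuotientAddGroup.eq_zero_iff]
  constructor
  · intro h
    obtain ⟨g, hg⟩ := (mem_principal_iff hdim _).1 h
    have hu : ∀ x : LocSym.Pt c, ∃ a : kˣ, x ∈ m.support → LocSym.HasValueAt x g (a : k) := by
      intro x
      by_cases hx : x ∈ m.support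
      · obtain ⟨a, ha⟩ := exists_unit_value c hdim x hg.1 (by rw [← hg.2]; exact D.2 x hx)
        exact ⟨a, fun _ => ha⟩
      · exact ⟨1, fun e => absurd e hx⟩
    choose v hv using hu
    exact ⟨g, D, v, hg, fun x hx => hv x hx, rfl⟩
  · rintro ⟨g, E, v, hg, -, h⟩
    rw [QuotientAddGroup.eq_iff_sub_mem] at h
    have h1 := principalMod_le_comap c m h
    rw [AddSubgroup.mem_comap, map_sub] at h1
    have h2 : (E : LocSym.Pt c →₀ ℤ) ∈ principal c := AddSubgroup.subset_closure ⟨g, hg⟩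
    simpa using add_mem h1 h2

end Groth.Agent.LocSymLib
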