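import Groth.Agent.PureLib.Supported
import Groth.Agent.SmoothReg.Scheme
import Groth.Agent.VarDim.Top
import Groth.Agent.Proj16.Centre
import Groth.Agent.FFLib.Place
import Groth.Prelude.Def_CurvBase
import Groth.Prelude.Def_W4bk4goldsch23FF
import Mathlib.RingTheory.Valuation.Discrete.IsDiscreteValuationRing
import Mathlib.FieldTheory.IntermediateField.Adjoin.Algebra
import Mathlib.FieldTheory.IntermediateField.Adjoin.Basic

/-! The function field of a smooth proper curve over an algebraically closed field, and its places
(a copy of the bridge `CurveFF.Base` with a small import closure). -/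

noncomputable section

set_option linter.style.haveILetI false
set_option linter.unusedSectionVars false
set_option backward.isDefEq.respectTransparency false
set_option backward.isDefEq.respectTransparency.types false

universe u

open CategoryTheory CategoryTheory.Limits AlgebraicGeometry TopologicalSpace Opposite

namespace Groth.Agent.LocSymLib.Places

variable (k : Type u) [Field k] (X : Scheme.{u}) [X.Over (Spec (CommRingCat.of k))] [IsIntegral X]

omit [X.Over (Spec (CommRingCat.of k))] in
variable {X} in
/-- `c` lies in the local ring at `z`. -/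
def InR (z : X) (c : X.functionField) : Prop := c ∈ (algebraMap (X.presheaf.stalk z) X.functionField).range

/-- The function field as a `k`-algebra. -/
@[reducible] def ffAlg : Algebra k X.functionField := Curv2.stalkAlgebra k X (genericPoint X)

attribute [local instance] ffAlg

/-- The algebra map of the function field factors through every local ring. -/
theorem algebraMap_eq (z : X) (c : k) :
    algebraMap k X.functionField c =
      algebraMap (X.presheaf.stalk z) X.functionField (Curv2.stalkMap k X z c) :=
  (TopCat.Presheaf.germ_stalkSpecializes_apply (F := X.presheaf) (U := ⊤)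
    (hy := (trivial : z ∈ (⊤ : X.Opens)))
    ((genericPoint_spec X).specializes (Set.mem_univ z)) _).symm

theorem inR_algebraMap (z : X) (c : k) : InR z (algebraMap k X.functionField c) :=
  ⟨_, (algebraMap_eq k X z c).symm⟩

omit [X.Over (Spec (CommRingCat.of k))] in
theorem algebraMap_generic (x : X.presheaf.stalk (genericPoint X)) :
    @algebraMap (X.presheaf.stalk (genericPoint X)) X.functionField _ _
      (stalkFunctionFieldAlgebra X (genericPoint X)) x = x :=
  congr($(TopCat.Presheaf.stalkSpecializes_refl X.presheaf (genericPoint X)) x)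

variable [IsAlgClosed k]

theorem isGeometric : FunFld.IsGeometric k X.functionField := by
  intro k' _ _ _
  have hb : Function.Bijective (algebraMap k k') :=
    IsAlgClosed.algebraMap_bijective_of_isIntegral (k := k) (K := k')
  let e : k ≃ₐ[k] k' := AlgEquiv.ofBijective (Algebra.ofId k k') hb
  exact ((Algebra.TensorProduct.congr e.symm (AlgEquiv.refl : X.functionField ≃ₐ[k] X.functionField)).trans
    (Algebra.TensorProduct.lid k X.functionField)).toMulEquiv.isField (Field.toIsField _)

variable [IsProper (X ↘ Spec (CommRingCat.of k))] [Smooth (X ↘ Spec (CommRingCat.of k))]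

include k

theorem isNoetherian_of_proper : IsNoetherian X := by
  haveI : CompactSpace X := QuasiCompact.compactSpace_of_compactSpace (X ↘ Spec (CommRingCat.of k))
  haveI : IsLocallyNoetherian X := LocallyOfFiniteType.isLocallyNoetherian (X ↘ Spec (CommRingCat.of k))
  exact { __ := ‹IsLocallyNoetherian X›, __ := ‹CompactSpace X› }

theorem isDVR (hdim : topologicalKrullDim X = 1) {z : X} (hz : IsClosed ({z} : Set X)) :
    IsDiscreteValuationRing (X.presheaf.stalk z) := by
  haveI := isNoetherian_of_proper k X
  have hreg : IsRegularLocalRing (X.presheaf.stalk z) :=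
    SmoothReg.isRegularLocalRing_stalk_of_mem_smoothLocus (X ↘ Spec (CommRingCat.of k)) (by
      rw [(Scheme.Hom.smoothLocus_eq_top_iff (f := X ↘ Spec (CommRingCat.of k))).2 inferInstance]
      trivial)
  have hd : ringKrullDim (X.presheaf.stalk z) = 1 :=
    (SmoothReg.ringKrullDim_stalk_closedPoint (X ↘ Spec (CommRingCat.of k)) hz).trans hdim
  refine IsLocalRing.finrank_CotangentSpace_eq_one_iff.mp ?_
  rw [IsRegularLocalRing.iff_finrank_cotangentSpace, hd] at hreg
  exact_mod_cast hreg

/-- The closed points. -/
abbrev Pt : Type u := {z : X // IsClosed ({z} : Set X)}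

theorem eq_or_isClosed (hdim : topologicalKrullDim X = 1) (z : X) :
    z = genericPoint X ∨ IsClosed ({z} : Set X) := by
  haveI := isNoetherian_of_proper k X
  by_cases hz : IsClosed ({z} : Set X)
  · exact Or.inr hz
  · refine Or.inl (PureLib.eq_of_specializes (fun W hW => ?_) hz
      ((genericPoint_spec X).specializes trivial)).symm
    rw [irreducibleComponents_eq_singleton] at hW
    obtain rfl : W = Set.univ := hW
    exact (Homeomorph.Set.univ X).isHomeomorph.topologicalKrullDim_eq.trans hdim

variable (hdim : topologicalKrullDim X = 1)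

include hdim

/-- The valuation of a closed point. -/
def valAt (z : Pt X) : Valuation X.functionField (WithZero (Multiplicative ℤ)) :=
  haveI := isDVR k X hdim z.2
  (IsDiscreteValuationRing.maximalIdeal (X.presheaf.stalk z.1)).valuation X.functionField

theorem valAt_le_one_iff (z : Pt X) (c : X.functionField) :
    valAt k X hdim z c ≤ 1 ↔ InR z.1 c := by
  haveI := isDVR k X hdim z.2
  constructor
  · exact fun h => IsDiscreteValuationRing.exists_lift_of_le_one h
  · rintro ⟨a, rfl⟩
    exact (IsDiscreteValuationRing.maximalIdeal (X.presheaf.stalk z.1)).valuation_le_one a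

theorem valAt_lt_one_iff (z : Pt X) (a : X.presheaf.stalk z.1) :
    valAt k X hdim z (algebraMap (X.presheaf.stalk z.1) X.functionField a) < 1 ↔
      a ∈ IsLocalRing.maximalIdeal (X.presheaf.stalk z.1) := by
  haveI := isDVR k X hdim z.2
  exact IsDedekindDomain.HeightOneSpectrum.valuation_lt_one_iff_mem _ a

theorem valAt_surjective (z : Pt X) : Function.Surjective (valAt k X hdim z) :=
  haveI := isDVR k X hdim z.2
  IsDedekindDomain.HeightOneSpectrum.valuation_surjective _ _

/-- The place of a closed point. -/
def plOf (z : Pt X) : FunFld.Place k X.functionField :=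
  ⟨valAt k X hdim z,
    fun c => (valAt_le_one_iff k X hdim z _).2 (inR_algebraMap k X z.1 c),
    valAt_surjective k X hdim z⟩

theorem isCentre_valuationSubring {P : Valuation X.functionField (WithZero (Multiplicative ℤ))}
    {z : X} (h : Proj16.IsCentre P.valuationSubring z) :
    (∀ a : X.presheaf.stalk z, P (algebraMap (X.presheaf.stalk z) X.functionField a) ≤ 1) ∧
      ∀ a ∈ IsLocalRing.maximalIdeal (X.presheaf.stalk z),
        P (algebraMap (X.presheaf.stalk z) X.functionField a) < 1 :=
  ⟨h.1, fun a ha => P.isEquiv_valuation_valuationSubring.lt_one_iff_lt_one.2 (h.2 a ha)⟩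

theorem plOf_surjective : Function.Surjective (plOf k X hdim) := by
  intro P
  haveI := isNoetherian_of_proper k X
  let f := X ↘ Spec (CommRingCat.of k)
  haveI : Subsingleton (Spec (CommRingCat.of k)) := inferInstanceAs (Subsingleton (PrimeSpectrum k))
  let y := f (genericPoint X)
  have hk : ∀ a : (Spec (CommRingCat.of k)).presheaf.stalk y, ∃ c : k,
      (Proj16.toFunctionField f (specializes_refl y)).hom a = algebraMap k X.functionField c := by
    intro a
    obtain ⟨V, hyV, s, rfl⟩ := (Spec (CommRingCat.of k)).presheaf.exists_germ_eq (x := y) a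
    obtain rfl : V = ⊤ := eq_top_iff.2 fun p _ => Subsingleton.elim y p ▸ hyV
    refine ⟨(Scheme.ΓSpecIso (CommRingCat.of k)).hom s, ?_⟩
    rw [Proj16.toFunctionField, CommRingCat.comp_apply]
    erw [TopCat.Presheaf.germ_stalkSpecializes_apply, Scheme.Hom.germ_stalkMap_apply]
    show X.presheaf.germ _ _ _ (f.app ⊤ s) =
      X.presheaf.germ ⊤ _ _ (f.appTop ((Scheme.ΓSpecIso (CommRingCat.of k)).inv
        ((Scheme.ΓSpecIso (CommRingCat.of k)).hom s)))
    rw [Iso.hom_inv_id_apply]
    rfl
  have hd : Proj16.Dominates f P.1.valuationSubring (specializes_refl y) := by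
    refine ⟨fun a => ?_, fun a ha => ?_⟩
    · obtain ⟨c, hc⟩ := hk a
      rw [hc]
      exact P.2.1 c
    · obtain ⟨c, hc⟩ := hk a
      rcases eq_or_ne c 0 with rfl | hc0
      · rw [hc, map_zero, map_zero]; exact zero_lt_one
      exfalso
      refine (IsLocalRing.mem_maximalIdeal a).1 ha ?_
      have h0 : IsUnit ((Proj16.toFunctionField f (specializes_refl y)).hom a) :=
        hc ▸ ((Ne.isUnit hc0).map (algebraMap k X.functionField))
      rw [Proj16.toFunctionField, TopCat.Presheaf.stalkSpecializes_refl, Category.id_comp] at h0
      exact IsLocalHom.map_nonunit (f := (f.stalkMap (genericPoint X)).hom) a h0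
  obtain ⟨z, hz⟩ := Proj16.hasCentres_of_universallyClosed f P.1.valuationSubring y _ hd
  have hz' := isCentre_valuationSubring k X hdim hz
  have hzc : IsClosed ({z} : Set X) := by
    rcases eq_or_isClosed k X hdim z with rfl | h
    · obtain ⟨x, hx⟩ := P.2.2 (WithZero.exp 1)
      have hle := hz'.1 x
      have hle' : P.1 x ≤ 1 := le_of_eq_of_le (congrArg P.1 (algebraMap_generic X x)).symm hle
      rw [hx] at hle'
      replace hle := hle'
      rw [← WithZero.exp_zero, WithZero.exp_le_exp] at hle
      omega
    · exact h
  refine ⟨⟨z, hzc⟩, FFLib.place_eq_of_le fun c hc => ?_⟩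
  obtain ⟨a, rfl⟩ := (valAt_le_one_iff k X hdim ⟨z, hzc⟩ c).1 hc
  exact hz'.1 a

theorem plOf_injective : Function.Injective (plOf k X hdim) := by
  intro z z' h
  haveI hs : X.IsSeparated := ⟨by rw [← terminal.comp_from (X ↘ Spec (CommRingCat.of k))]; infer_instance⟩
  have hv : valAt k X hdim z = valAt k X hdim z' := congrArg Subtype.val h
  refine Subtype.ext (Proj16.eq_of_dominated (valAt k X hdim z).valuationSubring
    (CommRingCat.ofHom (algebraMap (X.presheaf.stalk z.1) X.functionField))
    (CommRingCat.ofHom (algebraMap (X.presheaf.stalk z'.1) X.functionField))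
    ((Proj16.specMap_algebraMap_stalk z.1).trans (Proj16.specMap_algebraMap_stalk z'.1).symm)
    (fun a => (valAt_le_one_iff k X hdim z _).2 ⟨a, rfl⟩)
    (fun a => hv ▸ (valAt_le_one_iff k X hdim z' _).2 ⟨a, rfl⟩)
    (fun a ha => ?_) (fun a ha => ?_))
  · rw [ValuationSubring.mem_nonunits_iff,
      ← (valAt k X hdim z).isEquiv_valuation_valuationSubring.lt_one_iff_lt_one]
    exact (valAt_lt_one_iff k X hdim z a).2 ha
  · rw [ValuationSubring.mem_nonunits_iff,
      ← (valAt k X hdim z).isEquiv_valuation_valuationSubring.lt_one_iff_lt_one, hv]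
    exact (valAt_lt_one_iff k X hdim z' a).2 ha

/-- Closed points are places. -/
def pl : Pt X ≃ FunFld.Place k X.functionField :=
  Equiv.ofBijective (plOf k X hdim) ⟨plOf_injective k X hdim, plOf_surjective k X hdim⟩

theorem inR_iff (z : Pt X) (c : X.functionField) : InR z.1 c ↔ (pl k X hdim z).1 c ≤ 1 :=
  (valAt_le_one_iff k X hdim z c).symm

/-- A rational function without poles at closed points is regular everywhere. -/
theorem inR_all {c : X.functionField} (h : ∀ z : Pt X, (pl k X hdim z).1 c ≤ 1) (z : X) : InR z c := by
  rcases eq_or_isClosed k X hdim z with rfl | hz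
  · exact ⟨c, algebraMap_generic X c⟩
  · exact (inR_iff k X hdim ⟨z, hz⟩ c).2 (h _)

theorem trdeg_eq_one : Algebra.trdeg k X.functionField = 1 := by
  have h := VarDim.topologicalKrullDim_eq_deg_genericPoint (X ↘ Spec (CommRingCat.of k))
  rw [hdim] at h
  have h1 : VarDim.deg (X ↘ Spec (CommRingCat.of k)) (genericPoint X) = 1 := by exact_mod_cast h.symm
  have h2 := VarDim.deg_eq_tdeg (X ↘ Spec (CommRingCat.of k)) (genericPoint X)
  rw [h1, Nat.cast_one] at h2
  letI := Curv2.resAlgebra k X (genericPoint X)
  have hb : Function.Bijective (X.residue (genericPoint X)).hom :=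
    ⟨(X.residue (genericPoint X)).hom.injective, X.residue_surjective (genericPoint X)⟩
  let e : X.functionField ≃ₐ[k] X.residueField (genericPoint X) :=
    AlgEquiv.ofRingEquiv (f := RingEquiv.ofBijective _ hb) fun _ => rfl
  have h3 : Algebra.trdeg k (X.residueField (genericPoint X)) = 1 := h2.symm
  exact e.trdeg_eq.trans h3

theorem essFiniteType : Algebra.EssFiniteType k X.functionField := by
  obtain ⟨U, hU, hηU, -⟩ := Opens.isBasis_iff_nbhd.mp X.isBasis_affineOpens
    (Opens.mem_top (genericPoint X))
  haveI : Nonempty U := ⟨⟨_, hηU⟩⟩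
  letI := (SmoothReg.affMap (X ↘ Spec (CommRingCat.of k)) U).toAlgebra
  haveI : Algebra.FiniteType k Γ(X, U) := SmoothReg.finiteType_affMap (X ↘ Spec (CommRingCat.of k)) hU
  haveI := functionField_isFractionRing_of_isAffineOpen X U hU
  haveI : IsScalarTower k Γ(X, U) X.functionField := IsScalarTower.of_algebraMap_eq fun c => by
    show X.presheaf.germ ⊤ _ _ _ = X.presheaf.germ U _ _ _
    exact (X.presheaf.germ_res_apply (homOfLE (le_top : U ≤ ⊤)) (genericPoint X) hηU _).symm
  haveI : Algebra.EssFiniteType Γ(X, U) X.functionField :=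
    .of_isLocalization _ (nonZeroDivisors Γ(X, U))
  exact Algebra.EssFiniteType.comp k Γ(X, U) X.functionField

theorem isFunctionField : FunFld.IsFunctionField k X.functionField := by
  obtain ⟨t, ht⟩ : ∃ t : X.functionField, Transcendental k t := by
    by_contra hno
    push Not at hno
    haveI : Algebra.IsAlgebraic k X.functionField := ⟨fun y => not_not.1 (hno y)⟩
    have h := trdeg_eq_one k X hdim
    rw [trdeg_eq_zero] at h
    exact zero_ne_one h
  refine ⟨⟨t, ht, ?_⟩, fun y hy => ?_⟩
  · let E := IntermediateField.adjoin k ({t} : Set X.functionField)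
    have hind : AlgebraicIndependent k (fun _ : PUnit.{u + 1} => t) :=
      algebraicIndependent_unique_type_iff.2 ht
    have hB := hind.isTranscendenceBasis_of_trdeg_le_of_finite (by
        rw [trdeg_eq_one k X hdim]; exact (Cardinal.one_le_iff_ne_zero.2 (Cardinal.mk_ne_zero PUnit.{u + 1})))
    haveI : Algebra.IsAlgebraic E X.functionField := by
      have := hB.isAlgebraic_field
      rwa [Set.range_const] at this
    haveI := essFiniteType k X hdim
    haveI : Algebra.EssFiniteType E X.functionField := Algebra.EssFiniteType.of_comp k E X.functionField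
    obtain ⟨S, hS⟩ := IntermediateField.fg_top E X.functionField
    have : FiniteDimensional E (IntermediateField.adjoin E (S : Set X.functionField)) :=
      IntermediateField.finiteDimensional_adjoin fun x _ => Algebra.IsIntegral.isIntegral x
    rw [hS] at this
    exact Module.Finite.equiv (IntermediateField.topEquiv (F := E) (E := X.functionField)).toLinearEquiv
  · haveI : Algebra.IsAlgebraic k (IntermediateField.adjoin k ({y} : Set X.functionField)) :=
      IntermediateField.isAlgebraic_adjoin_simple hy.isIntegral
    obtain ⟨c, hc⟩ := (IsAlgClosed.algebraMap_bijective_of_isIntegral (k := k)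
      (K := IntermediateField.adjoin k ({y} : Set X.functionField))).2
        ⟨y, IntermediateField.mem_adjoin_simple_self k y⟩
    exact ⟨c, congrArg Subtype.val hc⟩

end Groth.Agent.LocSymLib.Places
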